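import Cfsg.Agent.Lib.Classical.SpinTensor.Main

set_option autoImplicit false
set_option linter.unusedSectionVars false

/-!
The data in one factor of dimension two or four and the resulting subgroup.
-/

namespace CfsgLib.Classical.SpinTensor

open Matrix Module

variable {F : Type*} [Field F] {k t n : ℕ}

/-- A bilinear form as a linear map. -/
noncomputable def lin {f : (Fin k → F) → (Fin k → F) → F} (hf : Cfsg.Geo.IsBilinearForm f) :
    (Fin k → F) →ₗ[F] (Fin k → F) →ₗ[F] F :=
  LinearMap.mk₂ F f hf.add_left hf.smul_left (fun u v w => hf.add_right u v w)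
    (fun a u v => hf.smul_right a u v)

variable {f : (Fin k → F) → (Fin k → F) → F} (h2 : (2 : F) = 0) (hf : Cfsg.Geo.IsSymplecticForm f)

/-- The symmetrised product of two vectors. -/
noncomputable def X (a b : Fin k → F) : Matrix (Fin k) (Fin k) F :=
  LinearMap.toMatrix' (((lin hf.bilinear).flip a).smulRight b + ((lin hf.bilinear).flip b).smulRight a)

theorem X_mulVec (a b x : Fin k → F) : X hf a b *ᵥ x = f x a • b + f x b • a := by
  rw [X, LinearMap.toMatrix'_mulVec]; rfl

/-- A transvection minus the identity. -/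
noncomputable def T (c : F) (a : Fin k → F) : Matrix (Fin k) (Fin k) F :=
  LinearMap.toMatrix' (c • ((lin hf.bilinear).flip a).smulRight a)

theorem T_mulVec (c : F) (a x : Fin k → F) : T hf c a *ᵥ x = (c * f x a) • a := by
  rw [T, LinearMap.toMatrix'_mulVec, mul_smul]; rfl

include h2 hf in
theorem f_comm (u v : Fin k → F) : f u v = f v u := by
  rw [hf.skew]; linear_combination -(f v u) * h2

include h2 in
theorem X_conj (g : GL (Fin k) F) (l : F) (hl : l ≠ 0)
    (hg : ∀ u v, f (g.1 *ᵥ u) (g.1 *ᵥ v) = l * f u v) (a b : Fin k → F) :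
    g.1 * X hf a b * (g⁻¹ : GL (Fin k) F).1 = X hf (l⁻¹ • (g.1 *ᵥ a)) (g.1 *ᵥ b) := by
  refine Matrix.ext_iff_mulVec.2 fun x => ?_
  have key : ∀ v, f x (g.1 *ᵥ v) = l * f ((g⁻¹ : GL (Fin k) F).1 *ᵥ x) v := fun v => by
    rw [← hg, mulVec_mulVec, Units.mul_inv, one_mulVec]
  rw [← mulVec_mulVec, ← mulVec_mulVec, X_mulVec, X_mulVec, mulVec_add, mulVec_smul, mulVec_smul,
    hf.bilinear.smul_right, key, key, smul_smul, ← mul_assoc, inv_mul_cancel₀ hl, one_mul]
  congr 2
  field_simp

theorem T_conj (g : GL (Fin k) F) (l : F) (hl : l ≠ 0)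
    (hg : ∀ u v, f (g.1 *ᵥ u) (g.1 *ᵥ v) = l * f u v) (c : F) (a : Fin k → F) :
    g.1 * T hf c a * (g⁻¹ : GL (Fin k) F).1 = T hf (c / l) (g.1 *ᵥ a) := by
  refine Matrix.ext_iff_mulVec.2 fun x => ?_
  rw [← mulVec_mulVec, ← mulVec_mulVec, T_mulVec, T_mulVec, mulVec_smul]
  congr 1
  rw [show f x (g.1 *ᵥ a) = l * f ((g⁻¹ : GL (Fin k) F).1 *ᵥ x) a by
    rw [← hg, mulVec_mulVec, Units.mul_inv, one_mulVec]]
  field_simp

include h2 in
theorem T_self (c : F) (a : Fin k → F) (u v : Fin k → F) :
    f (T hf c a *ᵥ u) v = f u (T hf c a *ᵥ v) := by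
  rw [T_mulVec, T_mulVec, hf.bilinear.smul_left, hf.bilinear.smul_right, f_comm h2 hf a v]
  ring

theorem T_sq (c : F) (a : Fin k → F) : T hf c a * T hf c a = 0 := by
  refine Matrix.ext_iff_mulVec.2 fun x => ?_
  rw [← mulVec_mulVec, T_mulVec, T_mulVec, hf.bilinear.smul_left, hf.alternating, mul_zero,
    mul_zero, zero_smul, zero_mulVec]

include h2 in
theorem X_self (a b u v : Fin k → F) : f (X hf a b *ᵥ u) v = f u (X hf a b *ᵥ v) := by
  rw [X_mulVec, X_mulVec, hf.bilinear.add_left, hf.bilinear.add_right, hf.bilinear.smul_left,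
    hf.bilinear.smul_left, hf.bilinear.smul_right, hf.bilinear.smul_right, f_comm h2 hf b v,
    f_comm h2 hf a v]
  ring

include h2 in
theorem X_alt (a b u : Fin k → F) : f u (X hf a b *ᵥ u) = 0 := by
  rw [X_mulVec, hf.bilinear.add_right, hf.bilinear.smul_right, hf.bilinear.smul_right]
  linear_combination (f u a * f u b) * h2

theorem X_sq {a b : Fin k → F} (hab : f a b = 0) : X hf a b * X hf a b = 0 := by
  refine Matrix.ext_iff_mulVec.2 fun x => ?_
  rw [← mulVec_mulVec, X_mulVec, X_mulVec, hf.bilinear.add_left, hf.bilinear.add_left,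
    hf.bilinear.smul_left, hf.bilinear.smul_left, hf.bilinear.smul_left, hf.bilinear.smul_left,
    hf.alternating, hf.alternating, hf.skew b a, hab]
  simp

include hf in
theorem eq_zero_of_f {x : Fin k → F} (h : ∀ y, f x y = 0) : x = 0 := by
  by_contra hx
  obtain ⟨-, y, hy⟩ := hf.nondegenerate x hx
  exact hy (h y)

include hf in
theorem exists_one {x : Fin k → F} (hx : x ≠ 0) : ∃ y, f x y = 1 := by
  obtain ⟨-, y, hy⟩ := hf.nondegenerate x hx
  exact ⟨(f x y)⁻¹ • y, by rw [hf.bilinear.smul_right, inv_mul_cancel₀ hy]⟩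

include h2 hf in
/-- The expansion in a symplectic basis of length two. -/
theorem expand_two (hk : k = 2) {a b : Fin k → F} (hab : f a b = 1) (x : Fin k → F) :
    x = f x b • a + f x a • b := by
  have hba : f b a = 1 := by rw [f_comm h2 hf]; exact hab
  have hli : LinearIndependent F ![a, b] := by
    rw [LinearIndependent.pair_iff]
    intro p q h
    constructor
    · have := congrArg (fun z => lin hf.bilinear z b) h
      simp only [map_add, map_smul, LinearMap.add_apply, LinearMap.smul_apply, map_zero,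
        LinearMap.zero_apply, smul_eq_mul] at this
      simpa [lin, hab, hf.alternating] using this
    · have := congrArg (fun z => lin hf.bilinear z a) h
      simp only [map_add, map_smul, LinearMap.add_apply, LinearMap.smul_apply, map_zero,
        LinearMap.zero_apply, smul_eq_mul] at this
      simpa [lin, hba, hf.alternating] using this
  let bb := basisOfLinearIndependentOfCardEqFinrank hli (by simp [hk])
  have e := bb.sum_repr x
  simp only [bb, coe_basisOfLinearIndependentOfCardEqFinrank, Fin.sum_univ_two,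
    Matrix.cons_val_zero, Matrix.cons_val_one] at e
  conv_rhs => rw [← e]
  simp only [hf.bilinear.add_left, hf.bilinear.smul_left, hab, hba, hf.alternating, mul_one,
    mul_zero, add_zero, zero_add]
  exact e.symm

include h2 in
/-- The data in dimension two. -/
theorem local_two (hk : k = 2) {a b : Fin k → F} (hab : f a b = 1) {l : F} (hl0 : l ≠ 0)
    (hl1 : l ≠ 1) :
    Local f {Z | ∃ c v, Z = T hf c v} (T hf 1 a) (T hf (l * l + 1)⁻¹ a) (T hf 1 a) where
  conj g c hc hg := by
    rintro _ ⟨d, v, rfl⟩
    exact ⟨_, _, T_conj hf g c hc hg d v⟩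
  exists_s := by
    have hba : f b a = 1 := by rw [f_comm h2 hf]; exact hab
    have hexp := expand_two h2 hf hk hab
    let S : F → Matrix (Fin k) (Fin k) F := fun μ =>
      LinearMap.toMatrix' (μ • ((lin hf.bilinear).flip b).smulRight a +
        μ⁻¹ • ((lin hf.bilinear).flip a).smulRight b)
    have hS : ∀ μ x, S μ *ᵥ x = (μ * f x b) • a + (μ⁻¹ * f x a) • b := fun μ x => by
      simp only [S, LinearMap.toMatrix'_mulVec, mul_smul]; rfl
    have hinv : ∀ μ : F, μ ≠ 0 → S μ * S μ⁻¹ = 1 := fun μ hμ => by
      refine Matrix.ext_iff_mulVec.2 fun x => ?_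
      rw [← mulVec_mulVec, one_mulVec, hS, hS]
      simp only [hf.bilinear.add_left, hf.bilinear.smul_left, hab, hba, hf.alternating, mul_one,
        mul_zero, add_zero, zero_add, inv_inv, ← mul_assoc, mul_inv_cancel₀ hμ,
        inv_mul_cancel₀ hμ, one_mul]
      exact (hexp x).symm
    refine ⟨⟨S l, S l⁻¹, hinv l hl0, by simpa using hinv l⁻¹ (inv_ne_zero hl0)⟩, fun u v => ?_, ?_⟩
    · show f (S l *ᵥ u) (S l *ᵥ v) = f u v
      conv_rhs => rw [hexp u, hexp v]
      simp only [hS, hf.bilinear.add_left, hf.bilinear.smul_left, hf.bilinear.add_right,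
        hf.bilinear.smul_right, hab, hba, hf.alternating]
      field_simp
      ring
    · have hne : l * l + 1 ≠ 0 := by
        intro e
        refine hl1 ?_
        have : (l - 1) * (l - 1) = 0 := by linear_combination e - l * h2
        exact sub_eq_zero.1 (mul_self_eq_zero.1 this)
      set s : GL (Fin k) F := ⟨S l, S l⁻¹, hinv l hl0, by simpa using hinv l⁻¹ (inv_ne_zero hl0)⟩
      have hiso : ∀ u v, f (s.1 *ᵥ u) (s.1 *ᵥ v) = 1 * f u v := fun u v => by
        rw [one_mul]
        show f (S l *ᵥ u) (S l *ᵥ v) = f u v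
        conv_rhs => rw [hexp u, hexp v]
        simp only [hS, hf.bilinear.add_left, hf.bilinear.smul_left, hf.bilinear.add_right,
          hf.bilinear.smul_right, hab, hba, hf.alternating]
        field_simp
        ring
      rw [T_conj hf s 1 one_ne_zero hiso, div_one]
      refine Matrix.ext_iff_mulVec.2 fun x => ?_
      rw [add_mulVec, T_mulVec, T_mulVec, T_mulVec,
        show s.1 *ᵥ a = l • a by
          show S l *ᵥ a = _
          rw [hS, hab, hf.alternating, mul_one, mul_zero, zero_smul, add_zero],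
        hf.bilinear.smul_right, smul_smul, ← add_smul]
      congr 1
      field_simp
      rw [mul_div_assoc, div_self (by rw [sq]; exact hne), mul_one]
  mem := ⟨_, _, rfl⟩
  sq := T_sq hf _ _
  sq0 := T_sq hf _ _
  selfY := T_self h2 hf _ _
  self0 := T_self h2 hf _ _
  dual := by
    have hba : f b a = 1 := by rw [f_comm h2 hf]; exact hab
    exact ⟨b, a, b, hba, by rw [T_mulVec, hf.bilinear.smul_left, hf.alternating, mul_zero],
      hf.alternating b, by rw [T_mulVec, hf.bilinear.smul_left, hab, hba, one_mul, mul_one]⟩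
  comm := by
    rintro _ ⟨c, v, rfl⟩
    refine ⟨c * (f a v * f a v), Matrix.ext_iff_mulVec.2 fun x => ?_⟩
    rw [add_mulVec, ← mulVec_mulVec, ← mulVec_mulVec, T_mulVec, T_mulVec, T_mulVec, T_mulVec,
      smul_mulVec, one_mulVec, hf.bilinear.smul_left, hf.bilinear.smul_left]
    have hv := expand_two h2 hf hk hab v
    have hx := expand_two h2 hf hk hab x
    have hxv : f x v = f x b * f v a + f x a * f v b := by
      conv_lhs => rw [hv]
      rw [hf.bilinear.add_right, hf.bilinear.smul_right, hf.bilinear.smul_right]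
      ring
    rw [f_comm h2 hf a v, hxv]
    generalize f x b = x1 at *
    generalize f x a = x2 at *
    generalize f v b = v1 at *
    generalize f v a = v2 at *
    rw [hv, hx]
    match_scalars
    · linear_combination (c * v2 * x2 * v1) * h2
    · ring
  exists_comm := by
    have hba : f b a = 1 := by rw [f_comm h2 hf]; exact hab
    refine ⟨T hf 1 b, ⟨1, b, rfl⟩, 1, one_ne_zero, Matrix.ext_iff_mulVec.2 fun x => ?_⟩
    rw [add_mulVec, ← mulVec_mulVec, ← mulVec_mulVec, T_mulVec, T_mulVec, T_mulVec, T_mulVec,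
      one_smul, one_mulVec, hf.bilinear.smul_left, hf.bilinear.smul_left, hab, hba]
    simp only [one_mul, mul_one]
    exact (expand_two h2 hf hk hab x).symm
  sqA := T_sq hf _ _
  selfA := T_self h2 hf _ _
  exists_b := ⟨b, by
    rw [T_mulVec, hf.bilinear.smul_left, hab, f_comm h2 hf b a, hab]; simp⟩

include h2 hf in
/-- A symplectic basis of length four. -/
theorem exists_basis_four (hk3 : 3 ≤ k) (hk4 : k ≤ 4) :
    ∃ a a' c c' : Fin k → F, f a a' = 1 ∧ f c c' = 1 ∧ f a c = 0 ∧ f a c' = 0 ∧ f a' c = 0 ∧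
      f a' c' = 0 ∧ ∀ x : Fin k → F,
        x = f x a' • a + f x a • a' + f x c' • c + f x c • c' := by
  haveI : Nonempty (Fin k) := ⟨⟨0, by omega⟩⟩
  obtain ⟨a, ha⟩ := exists_ne (0 : Fin k → F)
  obtain ⟨a', haa⟩ := exists_one hf ha
  obtain ⟨c, hc, hc0⟩ := Submodule.exists_mem_ne_zero_of_ne_bot
    (p := LinearMap.ker (((lin hf.bilinear).flip a).prod ((lin hf.bilinear).flip a'))) (fun e => by
      have h1 := LinearMap.finrank_le_finrank_of_injective (LinearMap.ker_eq_bot.1 e)
      rw [Module.finrank_prod, Module.finrank_self, Module.finrank_fin_fun] at h1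
      omega)
  rw [LinearMap.mem_ker] at hc
  have hca : f c a = 0 := congrArg Prod.fst hc
  have hca' : f c a' = 0 := congrArg Prod.snd hc
  obtain ⟨c1, hc1⟩ := exists_one hf hc0
  set c' := c1 + f c1 a' • a + f c1 a • a' with hc'
  have sy := f_comm h2 hf
  have hcc : f c c' = 1 := by
    simp only [hc', hf.bilinear.add_right, hf.bilinear.smul_right, hca, hca', hc1, mul_zero,
      add_zero]
  have hac' : f a c' = 0 := by
    simp only [hc', hf.bilinear.add_right, hf.bilinear.smul_right, hf.alternating, haa, mul_zero,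
      add_zero, mul_one]
    rw [sy a c1]; linear_combination f c1 a * h2
  have ha'c' : f a' c' = 0 := by
    simp only [hc', hf.bilinear.add_right, hf.bilinear.smul_right, hf.alternating, sy a' a, haa,
      mul_zero, add_zero, mul_one]
    rw [sy a' c1]; linear_combination f c1 a' * h2
  refine ⟨a, a', c, c', haa, hcc, by rw [sy]; exact hca, hac', by rw [sy]; exact hca', ha'c', ?_⟩
  have t1 : f a' a = 1 := by rw [sy]; exact haa
  have t2 : f c' c = 1 := by rw [sy]; exact hcc
  have t3 : f a c = 0 := by rw [sy]; exact hca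
  have t4 : f a' c = 0 := by rw [sy]; exact hca'
  have t5 : f c' a = 0 := by rw [sy]; exact hac'
  have t6 : f c' a' = 0 := by rw [sy]; exact ha'c'
  have hli : LinearIndependent F ![a, a', c, c'] := by
    rw [Fintype.linearIndependent_iff]
    intro g hg
    have h := fun y => congrArg (fun z => lin hf.bilinear z y) hg
    simp only [Fin.sum_univ_four, map_add, map_smul, LinearMap.add_apply, LinearMap.smul_apply,
      map_zero, LinearMap.zero_apply, smul_eq_mul] at h
    intro i
    fin_cases i
    · simpa [lin, hf.alternating, haa, hca', t6] using h a'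
    · simpa [lin, hf.alternating, t1, hca, t5] using h a
    · simpa [lin, hf.alternating, hac', ha'c', hcc] using h c'
    · simpa [lin, hf.alternating, t3, t4, t2] using h c
  have hle := hli.fintype_card_le_finrank
  rw [Fintype.card_fin, Module.finrank_fin_fun] at hle
  let bb := basisOfLinearIndependentOfCardEqFinrank hli (by simp; omega)
  intro x
  have e := bb.sum_repr x
  simp only [bb, coe_basisOfLinearIndependentOfCardEqFinrank, Fin.sum_univ_four,
    Matrix.cons_val] at e
  conv_rhs => rw [← e]
  simp only [hf.bilinear.add_left, hf.bilinear.smul_left, hf.alternating, haa, hca, hca', hac',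
    ha'c', hcc, t1, t2, t3, t4, t5, t6, mul_one, mul_zero, add_zero, zero_add]
  exact e.symm

include h2 in
/-- The data in dimension four. -/
theorem local_four {a a' c c' : Fin k → F} (haa : f a a' = 1) (hcc : f c c' = 1) (hac : f a c = 0)
    (hac' : f a c' = 0) (ha'c : f a' c = 0) (ha'c' : f a' c' = 0)
    (hexp : ∀ x : Fin k → F, x = f x a' • a + f x a • a' + f x c' • c + f x c • c') :
    Local f {Z | ∃ p q, f p q = 0 ∧ Z = X hf p q} (X hf a c) (X hf a c') (T hf 1 a) where
  conj g l hl hg := by
    rintro _ ⟨p, q, hpq, rfl⟩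
    exact ⟨_, _, by rw [hf.bilinear.smul_left, hg, hpq, mul_zero, mul_zero],
      X_conj h2 hf g l hl hg p q⟩
  exists_s := by
    have sy := f_comm h2 hf
    let S : Matrix (Fin k) (Fin k) F := 1 + T hf 1 c
    have hSS : S * S = 1 := by
      simp only [S, add_mul, mul_add, one_mul, mul_one, T_sq, add_zero]
      rw [add_assoc, add_self_mat h2, add_zero]
    have hS : ∀ u, S *ᵥ u = u + f u c • c := fun u => by
      simp only [S, add_mulVec, one_mulVec, T_mulVec, one_mul]
    have hiso : ∀ u v, f (S *ᵥ u) (S *ᵥ v) = 1 * f u v := fun u v => by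
      simp only [hS, hf.bilinear.add_left, hf.bilinear.add_right, hf.bilinear.smul_left,
        hf.bilinear.smul_right, hf.alternating, one_mul, mul_zero, add_zero, sy c v]
      linear_combination (f u c * f v c) * h2
    refine ⟨⟨S, S, hSS, hSS⟩, fun u v => by simpa using hiso u v, ?_⟩
    rw [X_conj h2 hf ⟨S, S, hSS, hSS⟩ 1 one_ne_zero hiso]
    simp only [inv_one, one_smul]
    refine Matrix.ext_iff_mulVec.2 fun x => ?_
    rw [add_mulVec, X_mulVec, X_mulVec, X_mulVec, hS, hS, hac, zero_smul, add_zero, sy c' c, hcc,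
      one_smul, hf.bilinear.add_right]
    match_scalars <;> ring_nf <;> simp [h2]
  mem := ⟨a, c, hac, rfl⟩
  sq := X_sq hf hac
  sq0 := X_sq hf hac'
  selfY := X_self h2 hf _ _
  self0 := X_self h2 hf _ _
  dual := by
    have sy := f_comm h2 hf
    have e : X hf a c *ᵥ a' = c := by
      rw [X_mulVec, sy a' a, haa, ha'c, one_smul, zero_smul, add_zero]
    exact ⟨a', a, c', by rw [sy]; exact haa, by rw [e, sy]; exact hac, ha'c', by rw [e]; exact hcc⟩
  comm := by
    rintro _ ⟨p, q, hpq, rfl⟩
    refine ⟨f a p * f c q + f a q * f c p, Matrix.ext_iff_mulVec.2 fun x => ?_⟩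
    refine sub_eq_zero.1 (eq_zero_of_f hf fun w => ?_)
    have sy := f_comm h2 hf
    have hsub : ∀ u v, f (u - v) w = f u w - f v w := fun u v => by
      rw [sub_eq_add_neg, hf.bilinear.add_left, ← neg_one_smul F v, hf.bilinear.smul_left]; ring
    have hx : ∀ u v, f u v = f u a' * f a v + f u a * f a' v + f u c' * f c v + f u c * f c' v := by
      intro u v
      conv_lhs => rw [hexp u]
      simp only [hf.bilinear.add_left, hf.bilinear.smul_left]
    rw [hsub, add_mulVec, ← mulVec_mulVec, ← mulVec_mulVec, X_mulVec, X_mulVec, X_mulVec, X_mulVec,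
      smul_mulVec, one_mulVec]
    simp only [hf.bilinear.add_left, hf.bilinear.smul_left]
    have hpq' := hx p q
    rw [hpq] at hpq'
    rw [sy x a, sy x c, sy q a, sy p a, sy q c, sy p c, hx x p, hx x q, hx q w, hx p w, hx x w]
    rw [sy x a, sy x c, sy q a, sy p a, sy q c, sy p c, sy a' w, sy c' w]
    rw [sy p a, sy p c, sy a' q, sy c' q] at hpq'
    rw [sy a' p, sy a' q, sy c' p, sy c' q]
    linear_combination (norm := skip) (f a x * f c w + f c x * f a w) * hpq'
    ring_nf
    simp only [h2, mul_zero, zero_mul, add_zero, sub_zero, neg_zero]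
  exists_comm := by
    refine ⟨X hf a' c', ⟨a', c', ha'c', rfl⟩, 1, one_ne_zero, Matrix.ext_iff_mulVec.2 fun x => ?_⟩
    have sy := f_comm h2 hf
    rw [add_mulVec, ← mulVec_mulVec, ← mulVec_mulVec, X_mulVec, X_mulVec, X_mulVec, X_mulVec,
      one_smul, one_mulVec]
    simp only [hf.bilinear.add_left, hf.bilinear.smul_left, sy a' a, haa, hac', hcc, ha'c,
      sy c' a, sy c' c, sy c a', mul_one, mul_zero, add_zero, zero_add]
    refine Eq.trans ?_ (hexp x).symm
    abel
  sqA := T_sq hf _ _
  selfA := T_self h2 hf _ _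
  exists_b := ⟨a', by
    rw [T_mulVec, hf.bilinear.smul_left, haa, f_comm h2 hf a' a, haa]; simp⟩

include h2 hf in
/-- The stabiliser of the tensor power is not maximal. -/
theorem exists_between_apply [Finite F] (Q : (Fin n → F) → F)
    (hQ : Cfsg.Geo.IsNondegenerateQuadraticForm Q) (hk : k ≤ 4) (ht : 2 ≤ t) (hn : 13 ≤ n)
    (hq : k = 2 → ∃ l : F, l ≠ 0 ∧ l ≠ 1) (e : Fin n ≃ (Fin t → Fin k)) (P : GL (Fin n) F)
    (hT : Cfsg.Geo.IsTensorPowerFormStructure id (QuadraticMap.polar Q) f e P)
    (hpure : ∀ x : Fin t → Fin k → F, Q (emb e P (pv x)) = 0) :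
    ∃ K : Subgroup (GL (Fin n) F),
      Cfsg.Geo.tensorWreathSubgroup k t e P ⊓ Cfsg.Geo.omegaGL Q < K ∧
        K < Cfsg.Geo.omegaGL Q := by
  classical
  obtain ⟨c₀, hc₀, hpol⟩ := hT
  have hS : Setup Q f e P c₀ := ⟨h2, hQ, hf, hc₀, hpol, hpure⟩
  have hcard := Fintype.card_congr e
  rw [Fintype.card_fin, Fintype.card_fun, Fintype.card_fin, Fintype.card_fin] at hcard
  have hk0 : k ≠ 0 := by
    rintro rfl; rw [zero_pow (by omega)] at hcard; omega
  haveI : Nonempty (Fin k) := ⟨⟨0, by omega⟩⟩
  obtain ⟨v, hv⟩ := exists_ne (0 : Fin k → F)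
  obtain ⟨v', hv'⟩ := exists_one hf hv
  have hk1 : k ≠ 1 := by
    rintro rfl
    have hsub : ∀ u : Fin 1 → F, u = u 0 • (1 : Fin 1 → F) := fun u => by
      funext i; fin_cases i; simp
    rw [hsub v, hsub v', hf.bilinear.smul_left, hf.bilinear.smul_right, hf.alternating, mul_zero,
      mul_zero] at hv'
    exact zero_ne_one hv'
  by_cases hk2 : k = 2
  · have ht4 : 4 ≤ t := by
      subst hk2
      by_contra hc
      have : 2 ^ t ≤ 2 ^ 3 := Nat.pow_le_pow_right (by norm_num) (by omega)
      omega
    obtain ⟨l, hl0, hl1⟩ := hq hk2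
    have hL := local_two h2 hf hk2 hv' hl0 hl1
    let p : Fin 4 → Fin t := fun m => ⟨m.1, by omega⟩
    have hp : ∀ {m m' : Fin 4}, m ≠ m' → p m ≠ p m' := fun h e => h (by
      simpa [p, Fin.ext_iff] using e)
    have h01 := hp (show (0 : Fin 4) ≠ 1 by decide)
    have h02 := hp (show (0 : Fin 4) ≠ 2 by decide)
    have h03 := hp (show (0 : Fin 4) ≠ 3 by decide)
    have h12 := hp (show (1 : Fin 4) ≠ 2 by decide)
    have h13 := hp (show (1 : Fin 4) ≠ 3 by decide)
    have h23 := hp (show (2 : Fin 4) ≠ 3 by decide)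
    have hb : f v' v = 1 := by rw [f_comm h2 hf]; exact hv'
    refine exists_between hS hL (p 0) (p 1) h01 ⟨p 2, fun u => ?_⟩
      (Function.update (Function.update (Function.update 1 (p 0) (T hf 1 v)) (p 3) (T hf 1 v))
        (p 1) (T hf (l * l + 1)⁻¹ v)) (by simp [h01, h03]) (by simp) (fun m u w => ?_)
      ⟨p 2, fun u => ?_⟩ ?_
    · simp [h12.symm, h02.symm, hf.alternating]
    · by_cases e1 : m = p 1
      · subst e1; simp [T_self h2 hf]
      · by_cases e3 : m = p 3
        · subst e3; simp [e1, T_self h2 hf]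
        · by_cases e0 : m = p 0
          · subst e0; simp [e1, e3, T_self h2 hf]
          · simp [e1, e3, e0]
    · simp [h12.symm, h02.symm, h23, hf.alternating]
    · refine ⟨fun _ => v', fun r => if r = p 0 ∨ r = p 3 then v' else v, ?_, ?_, ?_⟩
      · intro Z _ m
        by_cases hm : m = p 0
        · subst hm
          exact Finset.prod_eq_zero (Finset.mem_univ (p 3)) (by simp [h03.symm, hf.alternating])
        · exact Finset.prod_eq_zero (Finset.mem_univ (p 0)) (by simp [Ne.symm hm, hf.alternating])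
      · exact Finset.prod_eq_zero (Finset.mem_univ (p 0)) (by simp [hf.alternating])
      · refine Finset.prod_ne_zero_iff.2 fun r _ => ?_
        by_cases e1 : r = p 1
        · subst e1; simp [h01.symm, h13, hb]
        · by_cases e3 : r = p 3
          · subst e3
            simp [e1, T_mulVec, hf.bilinear.smul_left, hv', hb]
          · by_cases e0 : r = p 0
            · subst e0
              simp [e1, e3, T_mulVec, hf.bilinear.smul_left, hv', hb]
            · simp [e1, e3, e0, hb]
  · obtain ⟨a, a', c, c', haa, hcc, hac, hac', ha'c, ha'c', hexp⟩ :=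
      exists_basis_four h2 hf (by omega) hk
    have hL := local_four h2 hf haa hcc hac hac' ha'c ha'c' hexp
    let i : Fin t := ⟨0, by omega⟩
    let j : Fin t := ⟨1, by omega⟩
    have hij : i ≠ j := by simp [i, j]
    have hb : f a' a = 1 := by rw [f_comm h2 hf]; exact haa
    refine exists_between hS hL i j hij ⟨j, fun u => ?_⟩
      (Function.update (Function.update 1 i (T hf 1 a)) j (X hf a c')) (by simp [hij]) (by simp)
      (fun m u w => ?_) ⟨j, fun u => ?_⟩ ?_
    · simp [X_alt h2 hf]
    · by_cases e1 : m = j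
      · subst e1; simp [X_self h2 hf]
      · by_cases e0 : m = i
        · subst e0; simp [e1, T_self h2 hf]
        · simp [e1, e0]
    · simp [X_alt h2 hf]
    · refine ⟨fun _ => a', fun r => if r = i then a' else a, ?_, ?_, ?_⟩
      · rintro Z ⟨p, q, -, rfl⟩ m
        by_cases hm : m = i
        · subst hm
          refine Finset.prod_eq_zero (Finset.mem_univ i) ?_
          simp only [Function.update_self, if_pos]
          rw [f_comm h2 hf]
          exact X_alt h2 hf p q a'
        · exact Finset.prod_eq_zero (Finset.mem_univ i) (by simp [Ne.symm hm, hf.alternating])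
      · exact Finset.prod_eq_zero (Finset.mem_univ i) (by simp [hf.alternating])
      · refine Finset.prod_ne_zero_iff.2 fun r _ => ?_
        by_cases e1 : r = j
        · subst e1; simp [hij.symm, hb]
        · by_cases e0 : r = i
          · subst e0; simp [e1, T_mulVec, hf.bilinear.smul_left, haa, hb]
          · simp [e1, e0, hb]

end CfsgLib.Classical.SpinTensor
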