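import Mathlib
import Cfsg.Prelude.Def_GeometricClasses

set_option autoImplicit false
set_option linter.unusedSectionVars false

/-!
Matrices of pure tensors in a tensor power and the elements of the wreath product acting on them.
-/

namespace CfsgLib.Classical.SpinTensor

open Matrix

variable {F : Type*} [Field F] {k t : ℕ}

/-- The pure tensor of vectors. -/
def pv (x : Fin t → Fin k → F) : (Fin t → Fin k) → F := fun a => ∏ i, x i (a i)

/-- The tensor product of matrices. -/
def kp (M : Fin t → Matrix (Fin k) (Fin k) F) : Matrix (Fin t → Fin k) (Fin t → Fin k) F :=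
  fun a b => ∏ i, M i (a i) (b i)

theorem kp_mulVec_pv (M : Fin t → Matrix (Fin k) (Fin k) F) (x : Fin t → Fin k → F) :
    kp M *ᵥ pv x = pv fun i => M i *ᵥ x i := by
  funext a
  simp only [mulVec, dotProduct, kp, pv, ← Finset.prod_mul_distrib]
  exact (Fintype.prod_sum fun i c => M i (a i) c * x i c).symm

theorem pv_single (a : Fin t → Fin k) :
    pv (fun i => (Pi.single (a i) 1 : Fin k → F)) = Pi.single a 1 := by
  classical
  funext b
  simp only [pv, Pi.single_apply]
  by_cases h : b = a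
  · simp [h]
  · obtain ⟨i, hi⟩ := Function.ne_iff.1 h
    rw [if_neg h]
    exact Finset.prod_eq_zero (Finset.mem_univ i) (if_neg hi)

/-- Matrices agreeing on pure tensors are equal. -/
theorem ext_pv {A B : Matrix (Fin t → Fin k) (Fin t → Fin k) F}
    (h : ∀ x : Fin t → Fin k → F, A *ᵥ pv x = B *ᵥ pv x) : A = B := by
  classical
  ext a b
  have := congrFun (h fun i => Pi.single (b i) 1) a
  simpa [pv_single] using this

theorem kp_mul (M N : Fin t → Matrix (Fin k) (Fin k) F) : kp M * kp N = kp fun i => M i * N i :=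
  ext_pv fun x => by simp only [← mulVec_mulVec, kp_mulVec_pv]

theorem kp_one : kp (1 : Fin t → Matrix (Fin k) (Fin k) F) = 1 :=
  ext_pv fun x => by simp [kp_mulVec_pv]

theorem kp_update_apply (M : Fin t → Matrix (Fin k) (Fin k) F) (i : Fin t)
    (X : Matrix (Fin k) (Fin k) F) (a b : Fin t → Fin k) :
    kp (Function.update M i X) a b =
      X (a i) (b i) * ∏ j ∈ Finset.univ.erase i, M j (a j) (b j) := by
  rw [kp, ← Finset.mul_prod_erase _ _ (Finset.mem_univ i), Function.update_self]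
  congr 1
  exact Finset.prod_congr rfl fun j hj => by
    rw [Function.update_of_ne (Finset.ne_of_mem_erase hj)]

theorem kp_update_add (M : Fin t → Matrix (Fin k) (Fin k) F) (i : Fin t)
    (X Y : Matrix (Fin k) (Fin k) F) :
    kp (Function.update M i (X + Y)) = kp (Function.update M i X) + kp (Function.update M i Y) := by
  ext a b
  simp only [Matrix.add_apply, kp_update_apply, add_mul]

theorem kp_update_smul (M : Fin t → Matrix (Fin k) (Fin k) F) (i : Fin t) (c : F)
    (X : Matrix (Fin k) (Fin k) F) :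
    kp (Function.update M i (c • X)) = c • kp (Function.update M i X) := by
  ext a b
  simp only [Matrix.smul_apply, kp_update_apply, smul_eq_mul, mul_assoc]

theorem kp_eq_zero (M : Fin t → Matrix (Fin k) (Fin k) F) (i : Fin t) (h : M i = 0) : kp M = 0 := by
  ext a b
  exact Finset.prod_eq_zero (Finset.mem_univ i) (by rw [h]; rfl)

/-- A matrix in one factor. -/
def sl (i : Fin t) (X : Matrix (Fin k) (Fin k) F) :
    Matrix (Fin t → Fin k) (Fin t → Fin k) F :=
  kp (Function.update 1 i X)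

theorem sl_one (i : Fin t) : sl i (1 : Matrix (Fin k) (Fin k) F) = 1 := by
  rw [sl, show (1 : Matrix (Fin k) (Fin k) F) = (1 : Fin t → Matrix (Fin k) (Fin k) F) i from rfl,
    Function.update_eq_self, kp_one]

theorem sl_mul (i : Fin t) (X Y : Matrix (Fin k) (Fin k) F) : sl i X * sl i Y = sl i (X * Y) := by
  rw [sl, sl, sl, kp_mul]
  congr 1
  funext j
  by_cases h : j = i <;> simp [h]

theorem sl_mul_kp (i : Fin t) (X : Matrix (Fin k) (Fin k) F)
    (M : Fin t → Matrix (Fin k) (Fin k) F) : sl i X * kp M = kp (Function.update M i (X * M i)) := by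
  rw [sl, kp_mul]
  congr 1
  funext j
  by_cases h : j = i
  · subst h; simp
  · simp [h]

theorem kp_mul_sl (i : Fin t) (X : Matrix (Fin k) (Fin k) F)
    (M : Fin t → Matrix (Fin k) (Fin k) F) : kp M * sl i X = kp (Function.update M i (M i * X)) := by
  rw [sl, kp_mul]
  congr 1
  funext j
  by_cases h : j = i
  · subst h; simp
  · simp [h]

/-- The bilinear form of the tensor power. -/
def bt (f : (Fin k → F) → (Fin k → F) → F) (x y : (Fin t → Fin k) → F) : F :=
  ∑ a, ∑ b, x a * (∏ i, Cfsg.Geo.gramMatrix f (a i) (b i)) * y b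

theorem eq_gram {f : (Fin k → F) → (Fin k → F) → F} (hf : Cfsg.Geo.IsBilinearForm f)
    (u v : Fin k → F) : f u v = ∑ a, ∑ b, u a * Cfsg.Geo.gramMatrix f a b * v b := by
  let B : (Fin k → F) →ₗ[F] (Fin k → F) →ₗ[F] F :=
    LinearMap.mk₂ F f hf.add_left hf.smul_left (fun u v w => hf.add_right u v w)
      (fun a u v => hf.smul_right a u v)
  have hB : ∀ u v, B u v = f u v := fun _ _ => rfl
  have h := LinearMap.sum_repr_mul_repr_mul (Pi.basisFun F (Fin k)) (Pi.basisFun F (Fin k)) u v
    (B := B)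
  rw [← hB, ← h, Finsupp.sum_fintype _ _ (by simp)]
  refine Finset.sum_congr rfl fun a _ => ?_
  rw [Finsupp.sum_fintype _ _ (by simp)]
  refine Finset.sum_congr rfl fun b _ => ?_
  simp [Cfsg.Geo.gramMatrix, hB]
  ring

theorem bt_pv {f : (Fin k → F) → (Fin k → F) → F} (hf : Cfsg.Geo.IsBilinearForm f)
    (x y : Fin t → Fin k → F) : bt f (pv x) (pv y) = ∏ i, f (x i) (y i) := by
  classical
  rw [bt, Finset.prod_congr rfl fun i _ => eq_gram hf (x i) (y i)]
  rw [Fintype.prod_sum]
  refine Finset.sum_congr rfl fun a _ => ?_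
  rw [Fintype.prod_sum]
  refine Finset.sum_congr rfl fun b _ => ?_
  simp only [pv, ← Finset.prod_mul_distrib]

/-- The action of an element of the wreath product on pure tensors. -/
def IsWreath (g : GL (Fin t → Fin k) F) : Prop :=
  ∃ (σ : Equiv.Perm (Fin t)) (A : Fin t → GL (Fin k) F), ∀ x : Fin t → Fin k → F,
    (g : Matrix (Fin t → Fin k) (Fin t → Fin k) F) *ᵥ pv x =
      pv fun i => (A i : Matrix (Fin k) (Fin k) F) *ᵥ x (σ i)

theorem isWreath_of_mem {g : GL (Fin t → Fin k) F}
    (hg : g ∈ Cfsg.Geo.tensorWreathStandard k t F) : IsWreath g := by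
  induction hg using Subgroup.closure_induction with
  | mem g hg =>
    rcases hg with ⟨gs, hgs⟩ | ⟨σ, hσ⟩
    · refine ⟨1, gs, fun x => ?_⟩
      rw [show (g : Matrix (Fin t → Fin k) (Fin t → Fin k) F) = kp fun i => (gs i).1 from
        Matrix.ext hgs, kp_mulVec_pv]
      rfl
    · refine ⟨σ⁻¹, fun _ => 1, fun x => ?_⟩
      funext a
      simp only [mulVec, dotProduct, hσ, ite_mul, one_mul, zero_mul, Finset.sum_ite_eq',
        Finset.mem_univ, if_true, pv]
      refine (Fintype.prod_equiv σ _ _ fun i => ?_)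
      simp [Matrix.one_apply]
  | one => exact ⟨1, fun _ => 1, fun x => by simp⟩
  | mul g h _ _ hg hh =>
    obtain ⟨σ, A, hA⟩ := hg
    obtain ⟨τ, B, hB⟩ := hh
    refine ⟨τ * σ, fun i => A i * B (σ i), fun x => ?_⟩
    rw [Units.val_mul, ← mulVec_mulVec, hB, hA]
    simp [mulVec_mulVec]
  | inv g _ hg =>
    obtain ⟨σ, A, hA⟩ := hg
    refine ⟨σ⁻¹, fun i => (A (σ⁻¹ i))⁻¹, fun x => ?_⟩
    have h := hA fun i => ((A (σ⁻¹ i))⁻¹ : GL (Fin k) F).1 *ᵥ x (σ⁻¹ i)
    simp only [Equiv.Perm.inv_def, Equiv.symm_apply_apply, mulVec_mulVec, Units.mul_inv,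
      one_mulVec] at h
    calc (g⁻¹ : GL (Fin t → Fin k) F).1 *ᵥ pv x
        = (g⁻¹ : GL (Fin t → Fin k) F).1 *ᵥ (g.1 *ᵥ pv fun i =>
            ((A (σ.symm i))⁻¹ : GL (Fin k) F).1 *ᵥ x (σ.symm i)) := by rw [h]
      _ = _ := by rw [mulVec_mulVec, Units.inv_mul, one_mulVec]; rfl

/-- The generators in the factors are permuted. -/
theorem isWreath_conj {g : GL (Fin t → Fin k) F} {σ : Equiv.Perm (Fin t)}
    {A : Fin t → GL (Fin k) F} (hA : ∀ x : Fin t → Fin k → F,
      (g : Matrix (Fin t → Fin k) (Fin t → Fin k) F) *ᵥ pv x =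
        pv fun i => (A i : Matrix (Fin k) (Fin k) F) *ᵥ x (σ i))
    (m : Fin t) (Z : Matrix (Fin k) (Fin k) F) :
    g.1 * sl m Z * (g⁻¹ : GL (Fin t → Fin k) F).1 =
      sl (σ.symm m) ((A (σ.symm m)).1 * Z * ((A (σ.symm m))⁻¹ : GL (Fin k) F).1) := by
  have h : g.1 * sl m Z =
      sl (σ.symm m) ((A (σ.symm m)).1 * Z * ((A (σ.symm m))⁻¹ : GL (Fin k) F).1) * g.1 := by
    refine ext_pv fun x => ?_
    rw [← mulVec_mulVec, ← mulVec_mulVec, sl, kp_mulVec_pv, hA, hA, sl, kp_mulVec_pv]
    congr 1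
    funext i
    by_cases hi : i = σ.symm m
    · subst hi
      simp [mulVec_mulVec, mul_assoc]
    · have hi' : σ i ≠ m := fun e => hi (by rw [← e, σ.symm_apply_apply])
      simp [hi, hi']
  rw [h, mul_assoc, Units.mul_inv, mul_one]

end CfsgLib.Classical.SpinTensor
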