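import Cfsg.Agent.Lib.Classical.SpinTensor.Kron

set_option autoImplicit false
set_option linter.unusedSectionVars false

/-!
In characteristic 2 the stabiliser of a symplectic tensor power lies below the normaliser of the
space spanned by the identity and a distinguished set of generators in the single factors.
-/

namespace CfsgLib.Classical.SpinTensor

open Matrix
open scoped commutatorElement

variable {F : Type*} [Field F] {k t n : ℕ}

/-- The data in one factor. -/
structure Local (f : (Fin k → F) → (Fin k → F) → F) (gens : Set (Matrix (Fin k) (Fin k) F))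
    (Y Y0 A : Matrix (Fin k) (Fin k) F) : Prop where
  conj : ∀ (g : GL (Fin k) F) (l : F), l ≠ 0 → (∀ u v, f (g.1 *ᵥ u) (g.1 *ᵥ v) = l * f u v) →
    ∀ Z ∈ gens, g.1 * Z * (g⁻¹ : GL (Fin k) F).1 ∈ gens
  exists_s : ∃ s : GL (Fin k) F, (∀ u v, f (s.1 *ᵥ u) (s.1 *ᵥ v) = f u v) ∧
    Y = s.1 * Y0 * (s⁻¹ : GL (Fin k) F).1 + Y0
  mem : Y ∈ gens
  sq : Y * Y = 0
  sq0 : Y0 * Y0 = 0
  selfY : ∀ u v, f (Y *ᵥ u) v = f u (Y *ᵥ v)
  self0 : ∀ u v, f (Y0 *ᵥ u) v = f u (Y0 *ᵥ v)
  dual : ∃ u p p', f u p = 1 ∧ f (Y *ᵥ u) p = 0 ∧ f u p' = 0 ∧ f (Y *ᵥ u) p' = 1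
  comm : ∀ Z ∈ gens, ∃ c : F, Y * Z + Z * Y = c • 1
  exists_comm : ∃ Z ∈ gens, ∃ c : F, c ≠ 0 ∧ Y * Z + Z * Y = c • 1
  sqA : A * A = 0
  selfA : ∀ u v, f (A *ᵥ u) v = f u (A *ᵥ v)
  exists_b : ∃ b, f (A *ᵥ b) b ≠ 0

variable {f : (Fin k → F) → (Fin k → F) → F}

variable {Q : (Fin n → F) → F} {e : Fin n ≃ (Fin t → Fin k)} {P : GL (Fin n) F} {c₀ : F}

/-- The coordinates of the tensor power. -/
def emb (e : Fin n ≃ (Fin t → Fin k)) (P : GL (Fin n) F) (x : (Fin t → Fin k) → F) : Fin n → F :=
  P.1 *ᵥ (x ∘ e)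

/-- The transport of matrices. -/
noncomputable def tr (e : Fin n ≃ (Fin t → Fin k)) (P : GL (Fin n) F) :
    GL (Fin t → Fin k) F ≃* GL (Fin n) F :=
  (Cfsg.Geo.glReindex e.symm).trans (MulAut.conj P)

theorem tr_emb (g : GL (Fin t → Fin k) F) (x : (Fin t → Fin k) → F) :
    (tr e P g).1 *ᵥ emb e P x = emb e P (g.1 *ᵥ x) := by
  simp only [tr, emb, MulEquiv.trans_apply, MulAut.conj_apply, Units.val_mul, mulVec_mulVec]
  rw [mul_assoc, Units.inv_mul, mul_one, ← mulVec_mulVec]
  congr 1
  show (Matrix.reindexAlgEquiv F F e.symm g.1) *ᵥ _ = _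
  rw [Matrix.reindexAlgEquiv_apply, Matrix.reindex_apply, Matrix.submatrix_mulVec_equiv]
  simp only [Equiv.symm_symm, Function.comp_assoc, Equiv.self_comp_symm, Function.comp_id]

theorem exists_emb (v : Fin n → F) : ∃ x : (Fin t → Fin k) → F, emb e P x = v := by
  refine ⟨((P⁻¹ : GL (Fin n) F).1 *ᵥ v) ∘ e.symm, ?_⟩
  rw [emb, Function.comp_assoc, Equiv.symm_comp_self, Function.comp_id, mulVec_mulVec,
    Units.mul_inv, one_mulVec]

theorem emb_add (x y : (Fin t → Fin k) → F) : emb e P (x + y) = emb e P x + emb e P y := by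
  rw [emb, emb, emb, ← mulVec_add]; rfl

theorem emb_smul (a : F) (x : (Fin t → Fin k) → F) : emb e P (a • x) = a • emb e P x := by
  rw [emb, emb, ← mulVec_smul]; rfl

/-- The hypotheses on the quadratic form. -/
structure Setup (Q : (Fin n → F) → F) (f : (Fin k → F) → (Fin k → F) → F)
    (e : Fin n ≃ (Fin t → Fin k)) (P : GL (Fin n) F) (c₀ : F) : Prop where
  two : (2 : F) = 0
  hQ : Cfsg.Geo.IsNondegenerateQuadraticForm Q
  hf : Cfsg.Geo.IsSymplecticForm f
  cne : c₀ ≠ 0
  polar : ∀ x y, QuadraticMap.polar Q (emb e P x) (emb e P y) = c₀ * bt f x y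
  pure : ∀ x, Q (emb e P (pv x)) = 0

theorem add_self_mat (h2 : (2 : F) = 0) {κ : Type} (X : Matrix κ κ F) : X + X = 0 := by
  ext a b
  rw [Matrix.add_apply, Matrix.zero_apply, ← two_mul, h2, zero_mul]

variable (hS : Setup Q f e P c₀)
include hS

/-- The quadratic form in the coordinates of the tensor power. -/
theorem q_add (x y : (Fin t → Fin k) → F) :
    Q (emb e P (x + y)) = Q (emb e P x) + Q (emb e P y) + c₀ * bt f x y := by
  rw [← hS.polar, emb_add, QuadraticMap.polar]
  ring

theorem q_smul (a : F) (x : (Fin t → Fin k) → F) :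
    Q (emb e P (a • x)) = a ^ 2 * Q (emb e P x) := by rw [emb_smul, hS.hQ.smul]

/-- An additive function homogeneous of degree two vanishing on pure tensors is zero. -/
theorem zero_of_pure (D : ((Fin t → Fin k) → F) → F) (hadd : ∀ x y, D (x + y) = D x + D y)
    (hsm : ∀ (a : F) x, D (a • x) = a ^ 2 * D x) (h0 : ∀ x, D (pv x) = 0)
    (x : (Fin t → Fin k) → F) : D x = 0 := by
  classical
  have hz : D 0 = 0 := by simpa using hsm 0 0
  let D' : ((Fin t → Fin k) → F) →+ F := ⟨⟨D, hz⟩, hadd⟩
  rw [show x = ∑ a, x a • (Pi.single a (1 : F) : (Fin t → Fin k) → F) by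
    funext b; simp [Finset.sum_apply, Pi.single_apply]]
  show D' _ = 0
  rw [map_sum]
  refine Finset.sum_eq_zero fun a _ => ?_
  show D _ = 0
  rw [hsm, ← pv_single, h0, mul_zero]

theorem bt_mulVec_kp {M N : Fin t → Matrix (Fin k) (Fin k) F}
    (h : ∀ i, ∀ u v, f (M i *ᵥ u) v = f u (N i *ᵥ v)) (x y : (Fin t → Fin k) → F) :
    bt f (kp M *ᵥ x) y = bt f x (kp N *ᵥ y) := by
  classical
  have hb : ∀ A B : (Fin t → Fin k) → F, bt f A B = c₀⁻¹ * QuadraticMap.polar Q (emb e P A) (emb e P B) := by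
    intro A B; rw [hS.polar, inv_mul_cancel_left₀ hS.cne]
  have hexp : ∀ z : (Fin t → Fin k) → F,
      z = ∑ a, z a • (Pi.single a (1 : F) : (Fin t → Fin k) → F) := fun z => by
    funext b; simp [Finset.sum_apply, Pi.single_apply]
  let L : ((Fin t → Fin k) → F) →ₗ[F] ((Fin t → Fin k) → F) →ₗ[F] F :=
    LinearMap.mk₂ F (fun A B => c₀⁻¹ * QuadraticMap.polar Q (emb e P A) (emb e P B))
      (fun A A' B => by simp only [emb_add, hS.hQ.polar_bilinear.add_left, mul_add])
      (fun a A B => by simp only [emb_smul, hS.hQ.polar_bilinear.smul_left, smul_eq_mul]; ring)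
      (fun A B B' => by simp only [emb_add, hS.hQ.polar_bilinear.add_right, mul_add])
      (fun a A B => by simp only [emb_smul, hS.hQ.polar_bilinear.smul_right, smul_eq_mul]; ring)
  have hL : ∀ A B, L A B = bt f A B := fun A B => (hb A B).symm
  rw [← hL, ← hL]
  have e1 : L.compl₁₂ (Matrix.mulVecLin (kp M)) LinearMap.id =
      L.compl₁₂ LinearMap.id (Matrix.mulVecLin (kp N)) := by
    refine LinearMap.ext_basis (Pi.basisFun F _) (Pi.basisFun F _) fun a b => ?_
    simp only [LinearMap.compl₁₂_apply, Matrix.mulVecLin_apply, LinearMap.id_apply,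
      Pi.basisFun_apply, ← pv_single, kp_mulVec_pv, hL, bt_pv hS.hf.bilinear]
    exact Finset.prod_congr rfl fun i _ => h i _ _
  simpa using LinearMap.congr_fun₂ e1 x y

/-- A linear map of pure tensors preserving the form is an isometry. -/
theorem sl_isometry (j : Fin t) {s : GL (Fin k) F}
    (hs : ∀ u v, f (s.1 *ᵥ u) (s.1 *ᵥ v) = f u v) (x : (Fin t → Fin k) → F) :
    Q (emb e P (sl j s.1 *ᵥ x)) = Q (emb e P x) := by
  have hB : ∀ x y, bt f (sl j s.1 *ᵥ x) (sl j s.1 *ᵥ y) = bt f x y := by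
    intro x y
    have hadj : ∀ i, ∀ u v, f (Function.update (1 : Fin t → Matrix (Fin k) (Fin k) F) j s.1 i *ᵥ u) v =
        f u (Function.update (1 : Fin t → Matrix (Fin k) (Fin k) F) j (s⁻¹ : GL (Fin k) F).1 i *ᵥ v) := by
      intro i u v
      by_cases h : i = j
      · subst h
        simp only [Function.update_self]
        rw [← hs u ((s⁻¹ : GL (Fin k) F).1 *ᵥ v), mulVec_mulVec, Units.mul_inv, one_mulVec]
      · simp [h]
    rw [sl, bt_mulVec_kp hS hadj, ← sl, ← sl, mulVec_mulVec, sl_mul, Units.inv_mul, sl_one,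
      one_mulVec]
  refine sub_eq_zero.1 (zero_of_pure hS (fun x => Q (emb e P (sl j s.1 *ᵥ x)) - Q (emb e P x))
    (fun x y => ?_) (fun a x => ?_) (fun x => ?_) x)
  · simp only [mulVec_add, q_add hS, hB]
    ring
  · simp only [mulVec_smul, q_smul hS]
    ring
  · simp only [sl, kp_mulVec_pv, hS.pure, sub_zero]

/-- The involution `1 + N` is an isometry. -/
theorem one_add_isometry {M : Fin t → Matrix (Fin k) (Fin k) F}
    (hself : ∀ i u v, f (M i *ᵥ u) v = f u (M i *ᵥ v)) {i : Fin t} (hi : M i * M i = 0)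
    {l : Fin t} (hl : ∀ u, f u (M l *ᵥ u) = 0) (x : (Fin t → Fin k) → F) :
    Q (emb e P ((1 + kp M) *ᵥ x)) = Q (emb e P x) := by
  have hsq : kp M * kp M = 0 := by rw [kp_mul]; exact kp_eq_zero _ i hi
  have hadj := bt_mulVec_kp hS hself
  have hNN : ∀ x y, bt f (kp M *ᵥ x) (kp M *ᵥ y) = 0 := by
    intro x y
    rw [hadj, mulVec_mulVec, hsq, zero_mulVec]
    simp [bt]
  have hQN : ∀ x, Q (emb e P (kp M *ᵥ x)) = 0 := fun x =>
    zero_of_pure hS (fun x => Q (emb e P (kp M *ᵥ x)))
      (fun x y => by simp only [mulVec_add, q_add hS, hNN, mul_zero, add_zero])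
      (fun a x => by simp only [mulVec_smul, q_smul hS]) (fun x => by
        simp only [kp_mulVec_pv, hS.pure]) x
  have hxN : ∀ x, c₀ * bt f x (kp M *ᵥ x) = 0 := fun x =>
    zero_of_pure hS (fun x => c₀ * bt f x (kp M *ᵥ x))
      (fun x y => by
        have h1 := hS.polar (x + y) (kp M *ᵥ (x + y))
        simp only [mulVec_add, emb_add, hS.hQ.polar_bilinear.add_left,
          hS.hQ.polar_bilinear.add_right, hS.polar] at h1
        have h2 : bt f y (kp M *ᵥ x) = bt f x (kp M *ᵥ y) := by
          rw [← hadj, ← mul_right_inj' hS.cne, ← hS.polar, ← hS.polar, QuadraticMap.polar_comm]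
        simp only [mulVec_add]
        rw [← h1, h2]
        linear_combination c₀ * bt f x (kp M *ᵥ y) * hS.two)
      (fun a x => by
        have h1 := hS.polar (a • x) (kp M *ᵥ (a • x))
        simp only [mulVec_smul, emb_smul, hS.hQ.polar_bilinear.smul_left,
          hS.hQ.polar_bilinear.smul_right, hS.polar] at h1
        simp only [mulVec_smul]
        rw [← h1]; ring) (fun x => by
        simp only [kp_mulVec_pv, bt_pv hS.hf.bilinear]
        rw [Finset.prod_eq_zero (Finset.mem_univ l) (hl _), mul_zero]) x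
  rw [add_mulVec, one_mulVec, q_add hS, hQN, hxN, add_zero, add_zero]

theorem mem_isometryGroup {g : GL (Fin t → Fin k) F}
    (h : ∀ x, Q (emb e P (g.1 *ᵥ x)) = Q (emb e P x)) :
    tr e P g ∈ Cfsg.isometryGroup F Q := by
  intro u _
  obtain ⟨x, rfl⟩ := exists_emb (e := e) (P := P) u
  show Q ((tr e P g).1 *ᵥ emb e P x) = _
  rw [tr_emb, h]

/-- The commutator of `1 + N` with an isometry of one factor. -/
theorem omega_mem {M : Fin t → Matrix (Fin k) (Fin k) F} {Y : Matrix (Fin k) (Fin k) F}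
    {i j : Fin t} (hij : i ≠ j) (hi : M i * M i = 0)
    (hself : ∀ i u v, f (M i *ᵥ u) v = f u (M i *ᵥ v)) {l : Fin t} (hl : ∀ u, f u (M l *ᵥ u) = 0)
    {s : GL (Fin k) F} (hs : ∀ u v, f (s.1 *ᵥ u) (s.1 *ᵥ v) = f u v)
    (hY : Y = s.1 * M j * (s⁻¹ : GL (Fin k) F).1 + M j) :
    ∃ g : GL (Fin t → Fin k) F, g.1 = 1 + kp (Function.update M j Y) ∧
      (g⁻¹ : GL (Fin t → Fin k) F).1 = 1 + kp (Function.update M j Y) ∧
      tr e P g ∈ Cfsg.Geo.omegaGL Q := by
  set N' := kp (Function.update M j (s.1 * M j * (s⁻¹ : GL (Fin k) F).1)) with hN'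
  have hinv : ∀ N : Fin t → Matrix (Fin k) (Fin k) F, N i * N i = 0 →
      (1 + kp N) * (1 + kp N) = 1 := by
    intro N hN
    have h0 : kp N * kp N = 0 := by rw [kp_mul]; exact kp_eq_zero _ i hN
    rw [add_mul, mul_add, mul_add, h0, one_mul, mul_one, one_mul, add_zero, add_assoc,
      add_self_mat hS.two, add_zero]
  let u : GL (Fin t → Fin k) F := ⟨1 + kp M, 1 + kp M, hinv M hi, hinv M hi⟩
  let S : GL (Fin t → Fin k) F :=
    ⟨sl j s.1, sl j (s⁻¹ : GL (Fin k) F).1, by rw [sl_mul, Units.mul_inv, sl_one],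
      by rw [sl_mul, Units.inv_mul, sl_one]⟩
  have hu : tr e P u ∈ Cfsg.isometryGroup F Q :=
    mem_isometryGroup hS (one_add_isometry hS hself hi hl)
  have hSm : tr e P S ∈ Cfsg.isometryGroup F Q := mem_isometryGroup hS (sl_isometry hS j hs)
  have hNi : Function.update M j Y i * Function.update M j Y i = 0 := by
    rw [Function.update_of_ne hij]; exact hi
  let g : GL (Fin t → Fin k) F := ⟨1 + kp (Function.update M j Y),
    1 + kp (Function.update M j Y), hinv _ hNi, hinv _ hNi⟩
  refine ⟨g, rfl, rfl, ?_⟩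
  have heq : g = ⁅S, u⁆ := by
    refine Units.ext ?_
    show 1 + kp (Function.update M j Y) =
      sl j s.1 * (1 + kp M) * sl j (s⁻¹ : GL (Fin k) F).1 * (1 + kp M)
    have h1 : sl j s.1 * (1 + kp M) * sl j (s⁻¹ : GL (Fin k) F).1 = 1 + N' := by
      rw [mul_add, add_mul, mul_one, sl_mul, Units.mul_inv, sl_one, sl_mul_kp, kp_mul_sl,
        Function.update_idem, Function.update_self]
    have h2 : N' * kp M = 0 := by
      rw [hN', kp_mul]
      refine kp_eq_zero _ i ?_
      rw [Function.update_of_ne hij, hi]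
    rw [h1, add_mul, mul_add, mul_add, h2, one_mul, mul_one, one_mul, add_zero, hY, kp_update_add,
      Function.update_eq_self, ← hN']
    abel
  refine ⟨⁅(⟨_, hSm⟩ : Cfsg.isometryGroup F Q), ⟨_, hu⟩⁆,
    Subgroup.commutator_mem_commutator (Subgroup.mem_top _) (Subgroup.mem_top _), ?_⟩
  rw [heq, map_commutatorElement, map_commutatorElement]
  rfl

omit hS in
/-- The generating space. -/
def space (t : ℕ) (gens : Set (Matrix (Fin k) (Fin k) F)) :
    Submodule F (Matrix (Fin t → Fin k) (Fin t → Fin k) F) :=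
  Submodule.span F (insert 1 {X | ∃ m, ∃ Z ∈ gens, X = sl m Z})

omit hS in
theorem space_conj {gens : Set (Matrix (Fin k) (Fin k) F)}
    {G G' : Matrix (Fin t → Fin k) (Fin t → Fin k) F} (h1 : G * G' = 1)
    (hgen : ∀ m, ∀ Z ∈ gens, G * sl m Z * G' ∈ space t gens) :
    ∀ X ∈ space t gens, G * X * G' ∈ space t gens := by
  intro X hX
  induction hX using Submodule.span_induction with
  | mem X hX =>
    rcases Set.mem_insert_iff.1 hX with rfl | ⟨m, Z, hZ, rfl⟩
    · rw [mul_one, h1]; exact Submodule.subset_span (Set.mem_insert _ _)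
    · exact hgen m Z hZ
  | zero => rw [mul_zero, zero_mul]; exact zero_mem _
  | add x y _ _ hx hy => rw [mul_add, add_mul]; exact add_mem hx hy
  | smul a x _ hx => rw [mul_smul_comm, smul_mul_assoc]; exact Submodule.smul_mem _ _ hx

omit hS in
/-- The normaliser of the generating space. -/
def normalizer (t : ℕ) (gens : Set (Matrix (Fin k) (Fin k) F)) :
    Subgroup (GL (Fin t → Fin k) F) where
  carrier := {g | ∀ X ∈ space t gens, g.1 * X * (g⁻¹).1 ∈ space t gens ∧
    (g⁻¹).1 * X * g.1 ∈ space t gens}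
  one_mem' X hX := by simpa using hX
  mul_mem' {g h} hg hh X hX := by
    constructor
    · have := (hg _ (hh X hX).1).1
      simpa [mul_assoc] using this
    · have := (hh _ (hg X hX).2).2
      simpa [mul_assoc] using this
  inv_mem' {g} hg X hX := by
    rw [inv_inv]
    exact (hg X hX).symm

variable [Finite F] {gens : Set (Matrix (Fin k) (Fin k) F)} {Y Y0 A : Matrix (Fin k) (Fin k) F}
  (hL : Local f gens Y Y0 A)
include hL

/-- The similitude in a factor. -/
theorem exists_similitude {g : GL (Fin t → Fin k) F} {σ : Equiv.Perm (Fin t)}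
    {B : Fin t → GL (Fin k) F} (hB : ∀ x : Fin t → Fin k → F,
      g.1 *ᵥ pv x = pv fun i => (B i).1 *ᵥ x (σ i))
    (hiso : tr e P g ∈ Cfsg.isometryGroup F Q) (i : Fin t) :
    ∃ l : F, l ≠ 0 ∧ ∀ u v, f ((B i).1 *ᵥ u) ((B i).1 *ᵥ v) = l * f u v := by
  classical
  obtain ⟨u0, p, -, hup, -, -, -⟩ := hL.dual
  have hQi : ∀ x, Q ((tr e P g).1 *ᵥ x) = Q x := fun x => hiso x x
  have hform : ∀ x y : Fin t → Fin k → F,
      ∏ m, f ((B m).1 *ᵥ x (σ m)) ((B m).1 *ᵥ y (σ m)) = ∏ m, f (x m) (y m) := by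
    intro x y
    have h1 : QuadraticMap.polar Q ((tr e P g).1 *ᵥ emb e P (pv x))
        ((tr e P g).1 *ᵥ emb e P (pv y)) = QuadraticMap.polar Q (emb e P (pv x)) (emb e P (pv y)) := by
      simp only [QuadraticMap.polar, ← mulVec_add, hQi]
    rw [tr_emb, tr_emb, hS.polar, hS.polar, hB, hB, bt_pv hS.hf.bilinear,
      bt_pv hS.hf.bilinear] at h1
    exact mul_left_cancel₀ hS.cne h1
  set K := ∏ m ∈ Finset.univ.erase i, f ((B m).1 *ᵥ u0) ((B m).1 *ᵥ p) with hK
  have key : ∀ u v, f ((B i).1 *ᵥ u) ((B i).1 *ᵥ v) * K = f u v := by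
    intro u v
    have h := hform (Function.update (fun _ => u0) (σ i) u) (Function.update (fun _ => p) (σ i) v)
    rw [← Finset.mul_prod_erase _ _ (Finset.mem_univ i),
      ← Finset.mul_prod_erase _ _ (Finset.mem_univ (σ i))] at h
    simp only [Function.update_self] at h
    rw [Finset.prod_congr rfl fun m hm => by
        rw [Function.update_of_ne (σ.injective.ne (Finset.ne_of_mem_erase hm)),
          Function.update_of_ne (σ.injective.ne (Finset.ne_of_mem_erase hm))],
      Finset.prod_eq_one (s := Finset.univ.erase (σ i)) fun m hm => by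
        rw [Function.update_of_ne (Finset.ne_of_mem_erase hm),
          Function.update_of_ne (Finset.ne_of_mem_erase hm), hup]] at h
    rw [hK, h, mul_one]
  have hK0 : K ≠ 0 := fun e => by
    have := key u0 p
    rw [e, mul_zero, hup] at this
    exact zero_ne_one this
  exact ⟨K⁻¹, inv_ne_zero hK0, fun u v => by
    rw [← key u v, mul_comm _ K, inv_mul_cancel_left₀ hK0]⟩

/-- The wreath product normalises the space. -/
theorem mem_normalizer {g : GL (Fin t → Fin k) F}
    (hg : g ∈ Cfsg.Geo.tensorWreathStandard k t F)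
    (hiso : tr e P g ∈ Cfsg.isometryGroup F Q) : g ∈ normalizer t gens := by
  have key : ∀ g ∈ Cfsg.Geo.tensorWreathStandard k t F, tr e P g ∈ Cfsg.isometryGroup F Q →
      ∀ X ∈ space t gens, g.1 * X * (g⁻¹).1 ∈ space t gens := by
    intro g hg hiso
    obtain ⟨σ, B, hB⟩ := isWreath_of_mem hg
    refine space_conj (Units.mul_inv g) fun m Z hZ => ?_
    obtain ⟨l, hl, hsim⟩ := exists_similitude hS hL hB hiso (σ.symm m)
    rw [isWreath_conj hB]
    exact Submodule.subset_span (Set.mem_insert_of_mem _ ⟨_, _, hL.conj _ l hl hsim Z hZ, rfl⟩)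
  intro X hX
  refine ⟨key g hg hiso X hX, ?_⟩
  have := key g⁻¹ (inv_mem hg) (by rw [map_inv]; exact inv_mem hiso) X hX
  rwa [inv_inv] at this

/-- The subgroup strictly between, from two commutators. -/
theorem exists_between (i j : Fin t) (hij : i ≠ j)
    (halt : ∃ l, ∀ u, f u (Function.update (Function.update (1 : Fin t → Matrix (Fin k) (Fin k) F) i Y) j Y0 l *ᵥ u) = 0)
    (M : Fin t → Matrix (Fin k) (Fin k) F) (hMi : M i = A) (hMj : M j = Y0)
    (hMself : ∀ m u v, f (M m *ᵥ u) v = f u (M m *ᵥ v))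
    (hMalt : ∃ l, ∀ u, f u (M l *ᵥ u) = 0)
    (htest : ∃ x : Fin t → Fin k → F,
      ∃ y : Fin t → Fin k → F,
        (∀ Z ∈ gens, ∀ m, ∏ r, f (Function.update (1 : Fin t → Matrix (Fin k) (Fin k) F) m Z r *ᵥ x r)
          (y r) = 0) ∧
        ∏ r, f (x r) (y r) = 0 ∧ ∏ r, f (Function.update M j 1 r *ᵥ x r) (y r) ≠ 0) :
    ∃ K : Subgroup (GL (Fin n) F),
      Cfsg.Geo.tensorWreathSubgroup k t e P ⊓ Cfsg.Geo.omegaGL Q < K ∧ K < Cfsg.Geo.omegaGL Q := by
  classical
  set K := (normalizer t gens).map (tr e P).toMonoidHom ⊓ Cfsg.Geo.omegaGL Q with hK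
  have hO : Cfsg.Geo.omegaGL Q ≤ Cfsg.isometryGroup F Q := by
    rintro _ ⟨x, -, rfl⟩; exact x.2
  have hT : Cfsg.Geo.tensorWreathSubgroup k t e P =
      (Cfsg.Geo.tensorWreathStandard k t F).map (tr e P).toMonoidHom := by
    rw [Cfsg.Geo.tensorWreathSubgroup, Subgroup.map_map]; rfl
  obtain ⟨s, hs, hY⟩ := hL.exists_s
  have hle : Cfsg.Geo.tensorWreathSubgroup k t e P ⊓ Cfsg.Geo.omegaGL Q ≤ K := by
    rintro _ ⟨hg, hgO⟩
    rw [hT] at hg
    obtain ⟨g, hg, rfl⟩ := hg
    exact ⟨⟨g, mem_normalizer hS hL hg (hO hgO), rfl⟩, hgO⟩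
  refine ⟨K, lt_of_le_not_ge hle fun hge => ?_, lt_of_le_not_ge inf_le_right fun hge => ?_⟩
  · -- an element of the normaliser outside the wreath product
    set M1 := Function.update (Function.update (1 : Fin t → Matrix (Fin k) (Fin k) F) i Y) j Y0
      with hM1
    have hM1i : M1 i = Y := by rw [hM1, Function.update_of_ne hij, Function.update_self]
    have hself1 : ∀ m u v, f (M1 m *ᵥ u) v = f u (M1 m *ᵥ v) := by
      intro m u v
      rw [hM1]
      by_cases hj : m = j
      · subst hj; simp [hL.self0]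
      · by_cases hi : m = i
        · subst hi; simp [hj, hL.selfY]
        · simp [hi, hj]
    obtain ⟨l, hl⟩ := halt
    obtain ⟨g, hg, hg', hgO⟩ := omega_mem hS hij (by rw [hM1i]; exact hL.sq) hself1 hl hs
      (Y := Y) (by rw [hM1, Function.update_self]; exact hY)
    set N := kp (Function.update M1 j Y) with hN
    have hgen : ∀ m, ∀ Z ∈ gens, g.1 * sl m Z * (g⁻¹).1 ∈ space t gens := by
      intro m Z hZ
      rw [hg, hg']
      have hexp : (1 + N) * sl m Z * (1 + N) =
          sl m Z + (N * sl m Z + sl m Z * N) + N * sl m Z * N := by noncomm_ring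
      rw [hexp]
      have hsl : sl m Z ∈ space t gens :=
        Submodule.subset_span (Set.mem_insert_of_mem _ ⟨m, Z, hZ, rfl⟩)
      have hY' : ∀ r : Fin t, sl r Y ∈ space t gens := fun r =>
        Submodule.subset_span (Set.mem_insert_of_mem _ ⟨r, Y, hL.mem, rfl⟩)
      rw [hN, kp_mul_sl, sl_mul_kp, kp_mul]
      have hz : kp (fun r => Function.update (Function.update M1 j Y) m
          (Function.update M1 j Y m * Z) r * Function.update M1 j Y r) = 0 := by
        by_cases hmi : m = i
        · subst hmi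
          refine kp_eq_zero _ j ?_
          simp [hij.symm, hL.sq]
        · refine kp_eq_zero _ i ?_
          simp [Ne.symm hmi, hij, hM1i, hL.sq]
      rw [hz, add_zero, ← kp_update_add]
      refine add_mem hsl ?_
      by_cases hmi : m = i
      · subst hmi
        obtain ⟨c, hc⟩ := hL.comm Z hZ
        rw [Function.update_of_ne hij, hM1i, hc, kp_update_smul]
        have e1 : Function.update (Function.update M1 j Y) m (1 : Matrix (Fin k) (Fin k) F) =
            Function.update (1 : Fin t → Matrix (Fin k) (Fin k) F) j Y := by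
          funext r; rw [hM1]
          by_cases h1 : r = m
          · subst h1; simp [hij]
          · by_cases h2 : r = j
            · subst h2; simp [h1]
            · simp [h1, h2]
        rw [e1]
        exact Submodule.smul_mem _ _ (hY' j)
      · by_cases hmj : m = j
        · subst hmj
          obtain ⟨c, hc⟩ := hL.comm Z hZ
          rw [Function.update_self, hc, kp_update_smul, Function.update_idem]
          have e1 : Function.update M1 m (1 : Matrix (Fin k) (Fin k) F) =
              Function.update (1 : Fin t → Matrix (Fin k) (Fin k) F) i Y := by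
            funext r; rw [hM1]
            by_cases h1 : r = m
            · subst h1; simp [hmi]
            · simp [h1]
          rw [e1]
          exact Submodule.smul_mem _ _ (hY' i)
        · have e1 : Function.update M1 j Y m = 1 := by rw [hM1]; simp [hmi, hmj]
          rw [e1, one_mul, mul_one, add_self_mat hS.two, ← zero_smul F (1 : Matrix (Fin k) (Fin k) F),
            kp_update_smul, zero_smul]
          exact zero_mem _
    have hmem : g ∈ normalizer t gens := by
      intro X hX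
      refine ⟨space_conj (Units.mul_inv g) hgen X hX, ?_⟩
      have := space_conj (Units.mul_inv g) hgen X hX
      rwa [hg', hg] at *
    obtain ⟨hgT, -⟩ := hge ⟨⟨g, hmem, rfl⟩, hgO⟩
    rw [hT] at hgT
    obtain ⟨g1, hg1, he⟩ := hgT
    rw [(tr e P).injective he] at hg1
    obtain ⟨σ, B, hB⟩ := isWreath_of_mem hg1
    obtain ⟨u, p, p', h1, h2, h3, h4⟩ := hL.dual
    let yv : (Fin k → F) → (Fin k → F) → Fin t → Fin k → F :=
      fun a b => Function.update (Function.update (fun _ => p) i a) j b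
    have hval : ∀ a b, ∏ r, f ((B r).1 *ᵥ u) (yv a b r) =
        f u a * f u b + f (Y *ᵥ u) a * f (Y *ᵥ u) b := by
      intro a b
      have h : bt f (g.1 *ᵥ pv fun _ => u) (pv (yv a b)) =
          bt f (pv fun r => (B r).1 *ᵥ u) (pv (yv a b)) := by rw [hB]
      rw [bt_pv hS.hf.bilinear, hg, add_mulVec, one_mulVec, hN, kp_mulVec_pv] at h
      rw [← h]
      have hlin : ∀ z w v : (Fin t → Fin k) → F, bt f (z + w) v = bt f z v + bt f w v := fun z w v => by
        simp only [bt, Pi.add_apply, add_mul, Finset.sum_add_distrib]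
      rw [hlin, bt_pv hS.hf.bilinear, bt_pv hS.hf.bilinear,
        ← Finset.mul_prod_erase _ _ (Finset.mem_univ i),
        ← Finset.mul_prod_erase (Finset.univ.erase i) _ (Finset.mem_erase.2 ⟨hij.symm, Finset.mem_univ j⟩),
        ← Finset.mul_prod_erase _ _ (Finset.mem_univ i),
        ← Finset.mul_prod_erase (Finset.univ.erase i) _ (Finset.mem_erase.2 ⟨hij.symm, Finset.mem_univ j⟩)]
      have ho : ∀ r ∈ (Finset.univ.erase i).erase j, yv a b r = p ∧ Function.update M1 j Y r *ᵥ u = u := by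
        intro r hr
        obtain ⟨hrj, hri, -⟩ : r ≠ j ∧ r ≠ i ∧ True := by simpa using hr
        simp [yv, hM1, hrj, hri]
      rw [Finset.prod_eq_one fun r hr => by rw [(ho r hr).1, h1],
        Finset.prod_eq_one fun r hr => by rw [(ho r hr).1, (ho r hr).2, h1]]
      simp [yv, hij, hM1i, hij.symm]
    have e11 := hval p p
    have e22 := hval p' p'
    have e12 := hval p p'
    simp only [h1, h2, h3, h4, mul_zero, zero_mul, add_zero, zero_add, mul_one] at e11 e22 e12
    rw [← Finset.mul_prod_erase _ _ (Finset.mem_univ i),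
      ← Finset.mul_prod_erase (Finset.univ.erase i) _ (Finset.mem_erase.2 ⟨hij.symm, Finset.mem_univ j⟩)] at e11 e22 e12
    have ho : ∀ a b, ∀ r ∈ (Finset.univ.erase i).erase j, yv a b r = p := by
      intro a b r hr
      obtain ⟨hrj, hri, -⟩ : r ≠ j ∧ r ≠ i ∧ True := by simpa using hr
      simp [yv, hrj, hri]
    rw [Finset.prod_congr rfl fun r hr => by rw [ho _ _ r hr]] at e11 e22 e12
    simp only [yv, Function.update_self, Function.update_of_ne hij] at e11 e22 e12
    rcases mul_eq_zero.1 e12 with h | h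
    · rw [h, zero_mul] at e11; exact zero_ne_one e11
    · rcases mul_eq_zero.1 h with h | h
      · rw [h, zero_mul, mul_zero] at e22; exact zero_ne_one e22
      · rw [h, mul_zero, mul_zero] at e11; exact zero_ne_one e11
  · -- an element of Ω outside the normaliser
    obtain ⟨l, hl⟩ := hMalt
    obtain ⟨g, hg, hg', hgO⟩ := omega_mem hS hij (by rw [hMi]; exact hL.sqA) hMself hl hs
      (Y := Y) (by rw [hMj]; exact hY)
    obtain ⟨⟨g0, hg0, he⟩, -⟩ := hge hgO
    rw [(tr e P).injective he] at hg0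
    obtain ⟨Z, hZ, c, hc0, hc⟩ := hL.exists_comm
    have h1 := (hg0 (sl j Z) (Submodule.subset_span (Set.mem_insert_of_mem _ ⟨j, Z, hZ, rfl⟩))).1
    rw [hg, hg'] at h1
    set N := kp (Function.update M j Y) with hN
    have hexp : (1 + N) * sl j Z * (1 + N) =
        sl j Z + (N * sl j Z + sl j Z * N) + N * sl j Z * N := by noncomm_ring
    rw [hexp, hN, kp_mul_sl, sl_mul_kp, kp_mul] at h1
    rw [kp_eq_zero (fun r => Function.update (Function.update M j Y) j
        (Function.update M j Y j * Z) r * Function.update M j Y r) i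
        (by simp [hij, hMi, hL.sqA]), add_zero, ← kp_update_add, Function.update_self, hc,
      kp_update_smul, Function.update_idem, add_comm] at h1
    have h2 : kp (Function.update M j 1) ∈ space t gens := by
      have := Submodule.smul_mem _ c⁻¹ (sub_mem h1 (Submodule.subset_span
        (Set.mem_insert_of_mem _ ⟨j, Z, hZ, rfl⟩) : sl j Z ∈ space t gens))
      rwa [add_sub_cancel_right, smul_smul, inv_mul_cancel₀ hc0, one_smul] at this
    obtain ⟨x, y, hy, hxy, hne⟩ := htest
    refine hne ?_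
    have hvan : ∀ X ∈ space t gens, bt f (X *ᵥ pv x) (pv y) = 0 := by
      intro X hX
      induction hX using Submodule.span_induction with
      | mem X hX =>
        rcases Set.mem_insert_iff.1 hX with rfl | ⟨m, Z, hZ, rfl⟩
        · rw [one_mulVec, bt_pv hS.hf.bilinear, hxy]
        · rw [sl, kp_mulVec_pv, bt_pv hS.hf.bilinear]; exact hy Z hZ m
      | zero => simp [bt]
      | add X X' _ _ h h' =>
        rw [add_mulVec]
        simp only [bt, Pi.add_apply, add_mul, Finset.sum_add_distrib] at h h' ⊢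
        rw [h, h', add_zero]
      | smul a X _ h =>
        rw [smul_mulVec]
        simp only [bt, Pi.smul_apply, smul_eq_mul, mul_assoc, ← Finset.mul_sum] at h ⊢
        rw [h, mul_zero]
    have := hvan _ h2
    rwa [kp_mulVec_pv, bt_pv hS.hf.bilinear] at this

end CfsgLib.Classical.SpinTensor
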